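import Mathlib.RingTheory.OrderOfVanishing.Basic
import Mathlib.RingTheory.DedekindDomain.Basic
import Mathlib.RingTheory.IntegralClosure.IntegrallyClosed
import Mathlib.RingTheory.Artinian.Ring
import Mathlib.RingTheory.Spectrum.Maximal.Basic
import Mathlib.RingTheory.Ideal.Quotient.Noetherian

/-!
# Krull–Akizuki (birational case)

For a Noetherian domain `R` of dimension `≤ 1` with fraction field `K`, every intermediate ring
`R ⊆ A ⊆ K` is Noetherian of dimension `≤ 1`, and semilocal if `R` is.
-/

namespace Groth.Agent.Lib.SemiLocalDimOne.KrullAkizuki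

open scoped Pointwise

set_option linter.style.haveILetI false
set_option linter.unusedSectionVars false

variable {R K : Type*} [CommRing R] [Field K] [Algebra R K]

lemma exists_ne_zero_mem [IsFractionRing R K] (A : Subalgebra R K) {a : A} (ha : a ≠ 0) :
    ∃ r : R, r ≠ 0 ∧ algebraMap R A r ∈ Ideal.span {a} := by
  obtain ⟨⟨p, q⟩, hpq⟩ := IsLocalization.surj (nonZeroDivisors R) (a : K)
  refine ⟨p, ?_, ?_⟩
  · rintro rfl
    rw [map_zero, mul_eq_zero] at hpq
    rcases hpq with h | h
    · exact ha (Subtype.ext h)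
    · haveI : Nontrivial R := (algebraMap R K).domain_nontrivial
      exact nonZeroDivisors.ne_zero q.2
        ((IsFractionRing.injective R K) (h.trans (map_zero _).symm))
  · rw [Ideal.mem_span_singleton]
    exact ⟨algebraMap R A q, Subtype.ext hpq.symm⟩

variable [IsDomain R] [IsNoetherianRing R] [Ring.KrullDimLE 1 R]

lemma coheight_add_le_of_chain {α : Type*} [Preorder α] :
    ∀ (m : ℕ) (T : Fin (m + 1) → α), StrictMono T →
      Order.coheight (T (Fin.last m)) + (m : ℕ∞) ≤ Order.coheight (T 0)
  | 0, T, _ => by simp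
  | m + 1, T, hT => by
    have h := coheight_add_le_of_chain m (fun i => T i.succ)
      (fun i j hij => hT (Fin.succ_lt_succ_iff.2 hij))
    have h1 := Order.coheight_add_one_le (hT (Fin.succ_pos (0 : Fin (m + 1))))
    simp only [Fin.succ_last] at h
    calc Order.coheight (T (Fin.last (m + 1))) + ((m + 1 : ℕ) : ℕ∞)
        = Order.coheight (T (Fin.last (m + 1))) + m + 1 := by push_cast; rw [add_assoc]
      _ ≤ Order.coheight (T (Fin.succ 0)) + 1 := by gcongr
      _ ≤ _ := h1

/-- The length of `R/xI` is the length of `R/I` plus the order of `x`. -/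
lemma coheight_smul_ideal (I : Ideal R) {x : R} (hx : x ≠ 0) :
    Order.coheight (x • I) = Order.coheight I + Ring.ord R x := by
  have h := Module.length_eq_add_of_exact (Ideal.mulQuot x I) (Ideal.quotOfMul x I)
    (Ideal.mulQuot_injective I (mem_nonZeroDivisors_of_ne_zero hx))
    (Ideal.quotOfMul_surjective I) (Ideal.exact_mulQuot_quotOfMul I)
  rwa [Module.length_quotient, Module.length_quotient] at h

lemma coheight_ne_top {I : Ideal R} (hI : I ≠ ⊥) : Order.coheight I ≠ ⊤ := by
  obtain ⟨a, haI, ha⟩ := (Submodule.ne_bot_iff _).1 hI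
  have := Ring.ord_ne_top (R := R) (mem_nonZeroDivisors_of_ne_zero ha)
  rw [Ring.ord, Module.length_quotient] at this
  exact ne_top_of_le_ne_top this (Order.coheight_anti (by simpa [Ideal.span_le] using haI))

variable [IsFractionRing R K]

theorem length_quotient_le (A : Subalgebra R K) {x : R} (hx : x ≠ 0) :
    Module.length R (A ⧸ Ideal.span {algebraMap R A x}) ≤ Ring.ord R x := by
  rw [← (Submodule.Quotient.restrictScalarsEquiv R (Ideal.span {algebraMap R A x})).length_eq,
    Module.length_quotient]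
  refine Order.coheight_le fun l hl => ?_
  rcases Nat.eq_zero_or_pos l.length with h0 | hpos
  · simp [h0]
  classical
  have hstep : ∀ i : Fin l.length, ∃ a : A, a ∈ l i.succ ∧ a ∉ l i.castSucc := fun i =>
    SetLike.exists_of_lt (l.step i)
  choose e he he' using hstep
  obtain ⟨c, hc⟩ := IsLocalization.exist_integer_multiples_of_finset (nonZeroDivisors R)
    (Finset.univ.image fun i => (e i : K))
  have hc' : ∀ i, ∃ r : R, algebraMap R A r = (c : R) • e i := fun i => by
    obtain ⟨r, hr⟩ := hc _ (Finset.mem_image.2 ⟨i, Finset.mem_univ _, rfl⟩)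
    exact ⟨r, Subtype.ext hr⟩
  choose r hr using hc'
  let M : Submodule R A := Submodule.span R (Set.range e)
  let T : Fin (l.length + 1) → Ideal R := fun i =>
    Submodule.comap (Algebra.linearMap R A) ((l i ⊓ M).map (LinearMap.lsmul R A (c : R)))
  have hinj : Function.Injective (algebraMap R A) := fun a b h =>
    IsFractionRing.injective R K (congrArg Subtype.val h)
  have hcne : algebraMap R A (c : R) ≠ 0 := (map_ne_zero_iff _ hinj).2 (nonZeroDivisors.ne_zero c.2)
  have hmem : ∀ (i j), r j ∈ T i ↔ e j ∈ l i := by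
    intro i j
    simp only [T, Submodule.mem_comap, Algebra.linearMap_apply, hr, Submodule.mem_map,
      LinearMap.lsmul_apply, Submodule.mem_inf]
    constructor
    · rintro ⟨y, ⟨hy, -⟩, h⟩
      rw [Algebra.smul_def, Algebra.smul_def] at h
      rwa [← mul_left_cancel₀ hcne h]
    · exact fun h => ⟨e j, ⟨h, Submodule.subset_span ⟨j, rfl⟩⟩, rfl⟩
  have hmono : StrictMono T := by
    refine Fin.strictMono_iff_lt_succ.2 fun i => lt_of_le_of_ne ?_ ?_
    · exact Submodule.comap_mono (Submodule.map_mono (inf_le_inf_right M (l.step i).le))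
    · intro h
      exact he' i ((hmem _ _).1 (h ▸ (hmem i.succ i).2 (he i)))
  let I : Ideal R := Submodule.comap (Algebra.linearMap R A) (M.map (LinearMap.lsmul R A (c : R)))
  have hI0 : I ≠ ⊥ := by
    refine (Submodule.ne_bot_iff _).2 ⟨r ⟨0, hpos⟩, ?_, ?_⟩
    · simp only [I, Submodule.mem_comap, Algebra.linearMap_apply, hr]
      exact ⟨e _, Submodule.subset_span ⟨_, rfl⟩, rfl⟩
    · intro h
      have := hr ⟨0, hpos⟩
      rw [h, map_zero, Algebra.smul_def, eq_comm, mul_eq_zero, or_iff_right hcne] at this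
      exact he' ⟨0, hpos⟩ (this ▸ Submodule.zero_mem _)
  have hbot : x • I ≤ T 0 := by
    rintro z hz
    obtain ⟨y, hy, rfl⟩ := (Submodule.mem_smul_pointwise_iff_exists _ _ _).1 hz
    obtain ⟨m, hm, hm'⟩ := hy
    refine ⟨x • m, ⟨?_, M.smul_mem x hm⟩, ?_⟩
    · show x • m ∈ l.head
      rw [hl]
      rw [Submodule.restrictScalars_mem, Algebra.smul_def]
      exact Ideal.mul_mem_right _ _ (Ideal.mem_span_singleton_self _)
    · rw [map_smul, hm', map_smul]
  have htop : T (Fin.last _) ≤ I :=
    Submodule.comap_mono (Submodule.map_mono inf_le_right)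
  have h1 := coheight_add_le_of_chain _ T hmono
  have h2 : Order.coheight I + (l.length : ℕ∞) ≤ Order.coheight I + Ring.ord R x :=
    calc _ ≤ Order.coheight (T (Fin.last _)) + (l.length : ℕ∞) := by
          gcongr
      _ ≤ _ := h1
      _ ≤ Order.coheight (x • I) := Order.coheight_anti hbot
      _ = _ := coheight_smul_ideal I hx
  exact (ENat.add_le_add_iff_left (coheight_ne_top hI0)).1 h2

theorem isFiniteLength_quotient (A : Subalgebra R K) {x : R} (hx : x ≠ 0) :
    IsFiniteLength R (A ⧸ Ideal.span {algebraMap R A x}) :=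
  Module.length_ne_top_iff.1 (ne_top_of_le_ne_top
    (Ring.ord_ne_top (mem_nonZeroDivisors_of_ne_zero hx)) (length_quotient_le A hx))

theorem isArtinianRing_quotient (A : Subalgebra R K) {x : R} (hx : x ≠ 0) :
    IsArtinianRing (A ⧸ Ideal.span {algebraMap R A x}) := by
  have := (isFiniteLength_iff_isNoetherian_isArtinian.1 (isFiniteLength_quotient A hx)).2
  exact isArtinian_of_tower R this

theorem isNoetherianRing_subalgebra (A : Subalgebra R K) : IsNoetherianRing A := by
  refine (isNoetherianRing_iff_ideal_fg A).2 fun J => ?_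
  by_cases hJ : J = ⊥
  · exact hJ ▸ Submodule.fg_bot
  obtain ⟨a, haJ, ha⟩ := (Submodule.ne_bot_iff _).1 hJ
  obtain ⟨r, hr, hra⟩ := exists_ne_zero_mem A ha
  have hr' : algebraMap R A r ∈ J := (Ideal.span_le.2 (Set.singleton_subset_iff.2 haJ)) hra
  have := (isFiniteLength_iff_isNoetherian_isArtinian.1 (isFiniteLength_quotient A hr)).1
  have hN : IsNoetherian A (A ⧸ Ideal.span {algebraMap R A r}) := isNoetherian_of_tower R this
  refine Submodule.fg_of_fg_map_of_fg_inf_ker (Submodule.mkQ (Ideal.span {algebraMap R A r}))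
    (hN.noetherian _) ?_
  rw [Submodule.ker_mkQ, inf_eq_right.2 (by simpa [Ideal.span_le] using hr')]
  exact Submodule.fg_span_singleton _

theorem isMaximal_of_prime (A : Subalgebra R K) (P : Ideal A) [P.IsPrime] (hP : P ≠ ⊥) :
    P.IsMaximal := by
  obtain ⟨a, haP, ha⟩ := (Submodule.ne_bot_iff _).1 hP
  obtain ⟨r, hr, hra⟩ := exists_ne_zero_mem A ha
  have hle : Ideal.span {algebraMap R A r} ≤ P :=
    Ideal.span_le.2 (Set.singleton_subset_iff.2
      ((Ideal.span_le.2 (Set.singleton_subset_iff.2 haP)) hra))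
  haveI := isArtinianRing_quotient A hr
  haveI : (P.map (Ideal.Quotient.mk (Ideal.span {algebraMap R A r}))).IsPrime :=
    Ideal.map_isPrime_of_surjective Ideal.Quotient.mk_surjective (by rwa [Ideal.mk_ker])
  have hmax := IsArtinianRing.isMaximal_of_isPrime
    (P.map (Ideal.Quotient.mk (Ideal.span {algebraMap R A r})))
  have := Ideal.comap_isMaximal_of_surjective _ Ideal.Quotient.mk_surjective
    (K := P.map (Ideal.Quotient.mk (Ideal.span {algebraMap R A r})))
  rwa [Ideal.comap_map_of_surjective _ Ideal.Quotient.mk_surjective, ← RingHom.ker_eq_comap_bot,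
    Ideal.mk_ker, sup_eq_left.2 hle] at this

theorem dimensionLEOne_subalgebra (A : Subalgebra R K) : Ring.DimensionLEOne A :=
  ⟨fun hp h => haveI := h; isMaximal_of_prime A _ hp⟩

theorem krullDimLE_one_subalgebra (A : Subalgebra R K) : Ring.KrullDimLE 1 A :=
  haveI := dimensionLEOne_subalgebra A
  inferInstance

/-- In a semilocal domain of dimension `≤ 1` some nonzero element lies in all nonzero primes. -/
theorem exists_ne_zero_mem_prime (R : Type*) [CommRing R] [IsDomain R] [Ring.KrullDimLE 1 R]
    [Finite (MaximalSpectrum R)] :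
    ∃ x : R, x ≠ 0 ∧ ∀ P : Ideal R, P.IsPrime → P ≠ ⊥ → x ∈ P := by
  classical
  cases nonempty_fintype (MaximalSpectrum R)
  have : ∀ m : MaximalSpectrum R, ∃ y : R, y ≠ 0 ∧ (m.asIdeal ≠ ⊥ → y ∈ m.asIdeal) := by
    intro m
    by_cases h : m.asIdeal = ⊥
    · exact ⟨1, one_ne_zero, fun h' => absurd h h'⟩
    · obtain ⟨y, hy, hy0⟩ := (Submodule.ne_bot_iff _).1 h
      exact ⟨y, hy0, fun _ => hy⟩
  choose y hy0 hy using this
  refine ⟨∏ m, y m, Finset.prod_ne_zero_iff.2 fun m _ => hy0 m, fun P hP hP0 => ?_⟩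
  have hmax : P.IsMaximal := Ring.krullDimLE_one_iff_of_noZeroDivisors.1 ‹_› P hP0 hP
  exact P.mem_of_dvd (Finset.dvd_prod_of_mem y (Finset.mem_univ ⟨P, hmax⟩)) (hy ⟨P, hmax⟩ hP0)

theorem finite_maximalSpectrum_subalgebra [Finite (MaximalSpectrum R)] (A : Subalgebra R K) :
    Finite (MaximalSpectrum A) := by
  obtain ⟨x, hx, hxP⟩ := exists_ne_zero_mem_prime R
  haveI := isArtinianRing_quotient A hx
  let f := Ideal.Quotient.mk (Ideal.span {algebraMap R A x})
  have key : ∀ m : MaximalSpectrum A, m.asIdeal = ⊥ ∨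
      Ideal.span {algebraMap R A x} ≤ m.asIdeal := by
    intro m
    refine or_iff_not_imp_left.2 fun hm => Ideal.span_le.2 (Set.singleton_subset_iff.2 ?_)
    haveI := m.isMaximal.isPrime
    obtain ⟨a, haP, ha⟩ := (Submodule.ne_bot_iff _).1 hm
    obtain ⟨r, hr, hra⟩ := exists_ne_zero_mem A ha
    refine hxP (m.asIdeal.comap (algebraMap R A)) inferInstance fun h => hr ?_
    exact (Submodule.mem_bot R).1 (h ▸
      (Ideal.span_le.2 (Set.singleton_subset_iff.2 haP)) hra)
  have hfin : {I : Ideal A | I.IsMaximal}.Finite := by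
    refine ((Set.finite_range fun m : MaximalSpectrum (A ⧸ Ideal.span {algebraMap R A x}) =>
      m.asIdeal.comap f).union (Set.finite_singleton ⊥)).subset fun I hI => ?_
    rcases key ⟨I, hI⟩ with h | h
    · exact Or.inr h
    · haveI : I.IsMaximal := hI
      have hne : I.map f ≠ ⊤ := fun he => hI.ne_top (by
        have := congrArg (Ideal.comap f) he
        rwa [Ideal.comap_map_of_surjective _ Ideal.Quotient.mk_surjective,
          ← RingHom.ker_eq_comap_bot, Ideal.mk_ker, Ideal.comap_top, sup_eq_left.2 h] at this)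
      refine Or.inl ⟨⟨I.map f,
        (Ideal.map_eq_top_or_isMaximal_of_surjective f Ideal.Quotient.mk_surjective hI).resolve_left
          hne⟩, ?_⟩
      show (I.map f).comap f = I
      rw [Ideal.comap_map_of_surjective _ Ideal.Quotient.mk_surjective,
        ← RingHom.ker_eq_comap_bot, Ideal.mk_ker, sup_eq_left.2 h]
  haveI := hfin.to_subtype
  exact Finite.of_injective (fun m : MaximalSpectrum A => (⟨m.asIdeal, m.isMaximal⟩ :
    {I : Ideal A | I.IsMaximal})) fun m m' h => MaximalSpectrum.ext (congrArg Subtype.val h)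

theorem isDedekindDomain_integralClosure :
    IsDedekindDomain (integralClosure R K) := by
  haveI := isNoetherianRing_subalgebra (integralClosure R K)
  haveI := dimensionLEOne_subalgebra (integralClosure R K)
  haveI : IsIntegrallyClosed (integralClosure R K) := by
    haveI : IsFractionRing (integralClosure R K) K :=
      IsFractionRing.of_field _ _ fun a => by
        obtain ⟨p, q, hq, h⟩ := IsFractionRing.div_surjective (A := R) a
        exact ⟨algebraMap R _ p, algebraMap R _ q, h.symm⟩
    refine (isIntegrallyClosed_iff K).2 fun {x} hx => ⟨⟨x, ?_⟩, rfl⟩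
    exact isIntegral_trans x hx
  exact { }

end Groth.Agent.Lib.SemiLocalDimOne.KrullAkizuki
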