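import Groth.Agent.Lib.SemiLocalDimOne.Glue

/-!
# Conclusions of glueing semilocal one-dimensional subrings
-/

set_option linter.style.haveILetI false
set_option linter.unusedSectionVars false

universe u

namespace Groth.Agent.Lib.SemiLocalDimOne.GlueMain

open CategoryTheory AlgebraicGeometry
open Groth.Agent.Lib.SemiLocalDimOne.Glue

variable {K : Type u} [Field K] {ι : Type*} [Finite ι]

/-- Data for the glueing. -/
structure Data (A : ι → Subring K) (R : Subring K) where
  s : ι → K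
  hA : ∀ i, Nice (A i)
  hR : ∀ x, x ∈ R ↔ ∀ i, x ∈ A i
  hs0 : ∀ i, s i ≠ 0
  hs : ∀ i, s i ∈ A i
  hs' : ∀ i, (s i)⁻¹ ∈ A i
  hsj : ∀ i j, i ≠ j → InJac (A j) (s i)

lemma exists_data (A : ι → Subring K) (R : Subring K) (hA : ∀ i, Nice (A i))
    (hR : ∀ x, x ∈ R ↔ ∀ i, x ∈ A i) (hgen : ∀ i j, i ≠ j → A i ⊔ A j = ⊤) :
    Nonempty (Data A R) := by
  obtain ⟨s, h1, h2, h3, h4⟩ := exists_glueData A hA hgen
  exact ⟨⟨s, hA, hR, h1, h2, h3, h4⟩⟩

variable {A : ι → Subring K} {R : Subring K} (D : Data A R)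

namespace Data

include D

lemma le (i : ι) : R ≤ A i := le_A D.hR i

/-- The denominator of `A i` as an element of `R`. -/
def sR (i : ι) : R := ⟨D.s i, mem_R D.hR D.hs D.hsj i⟩

lemma sR_ne_zero (i : ι) : D.sR i ≠ 0 := fun e => D.hs0 i (congrArg Subtype.val e)

lemma isLocalization (i : ι) {h : R ≤ A i} :
    letI := (Subring.inclusion h).toAlgebra
    IsLocalization.Away (D.sR i) (A i) :=
  isLocalization_away D.hA D.hR D.hs0 D.hs D.hs' D.hsj i

lemma isOpenImmersion (i : ι) {h : R ≤ A i} :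
    IsOpenImmersion (Spec.map (CommRingCat.ofHom (Subring.inclusion h))) := by
  letI := (Subring.inclusion h).toAlgebra
  haveI := D.isLocalization i (h := h)
  exact IsOpenImmersion.of_isLocalization (D.sR i)

lemma range_eq (i : ι) {h : R ≤ A i} :
    Set.range (Spec.map (CommRingCat.ofHom (Subring.inclusion h))).base =
      {p : PrimeSpectrum R | D.sR i ∉ p.asIdeal} := by
  letI := (Subring.inclusion h).toAlgebra
  haveI := D.isLocalization i (h := h)
  exact PrimeSpectrum.localization_away_comap_range (A i) (D.sR i)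

lemma exists_notMem [Nonempty ι] (p : PrimeSpectrum R) : ∃ i, D.sR i ∉ p.asIdeal := by
  by_contra! h
  refine p.2.ne_top (top_le_iff.1 ?_)
  rw [← span_eq_top D.hR D.hs0 D.hs D.hs' D.hsj, Ideal.span_le]
  rintro _ ⟨i, rfl⟩
  exact h i

lemma iUnion_range [Nonempty ι] {h : ∀ i, R ≤ A i} :
    (⋃ i, Set.range (Spec.map (CommRingCat.ofHom (Subring.inclusion (h i)))).base) = Set.univ := by
  refine Set.eq_univ_of_forall fun p => ?_
  obtain ⟨i, hi⟩ := D.exists_notMem p
  exact Set.mem_iUnion.2 ⟨i, (D.range_eq i).symm ▸ hi⟩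

lemma isNoetherianRing [Nonempty ι] : IsNoetherianRing R := by
  refine (isNoetherianRing_iff_ideal_fg R).2 fun I => ?_
  refine Ideal.fg_of_localizationSpan (Set.range D.sR) ?_ fun g => ?_
  · exact span_eq_top D.hR D.hs0 D.hs D.hs' D.hsj
  obtain ⟨_, i, rfl⟩ := g
  letI := (Subring.inclusion (D.le i)).toAlgebra
  haveI := D.isLocalization i (h := D.le i)
  haveI := (D.hA i).noeth
  haveI : IsNoetherianRing (Localization.Away (D.sR i)) :=
    isNoetherianRing_of_ringEquiv (A i)
      (IsLocalization.algEquiv (Submonoid.powers (D.sR i)) (A i)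
        (Localization.Away (D.sR i))).toRingEquiv
  exact IsNoetherian.noetherian _

lemma isFractionRing [Nonempty ι] : IsFractionRing R K := by
  refine IsFractionRing.of_field _ _ fun a => ?_
  let i : ι := Classical.arbitrary ι
  haveI := (D.hA i).frac
  obtain ⟨p, q, hq, rfl⟩ := IsFractionRing.div_surjective (A := A i) a
  obtain ⟨n, hn⟩ := exists_pow_mem D.hA D.hR D.hs' D.hsj i p.2 D.hs
  obtain ⟨m, hm⟩ := exists_pow_mem D.hA D.hR D.hs' D.hsj i q.2 D.hs
  refine ⟨⟨_, hn⟩ * D.sR i ^ m, ⟨_, hm⟩ * D.sR i ^ n, ?_⟩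
  refine Eq.symm ?_
  show D.s i ^ n * (p : K) * ((D.sR i ^ m : R) : K) /
    (D.s i ^ m * (q : K) * ((D.sR i ^ n : R) : K)) = (p : K) / q
  rw [SubmonoidClass.coe_pow, SubmonoidClass.coe_pow]
  show D.s i ^ n * (p : K) * D.s i ^ m / (D.s i ^ m * (q : K) * D.s i ^ n) = (p : K) / q
  have h0 := pow_ne_zero n (D.hs0 i)
  have h1 := pow_ne_zero m (D.hs0 i)
  field_simp

lemma not_isField [Nonempty ι] : ¬ IsField R := by
  intro hF
  let i : ι := Classical.arbitrary ι
  refine (D.hA i).not_isField ?_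
  letI := (Subring.inclusion (D.le i)).toAlgebra
  haveI := D.isLocalization i (h := D.le i)
  have hu : IsUnit (D.sR i) := by
    obtain ⟨b, hb⟩ := hF.mul_inv_cancel (D.sR_ne_zero i)
    exact IsUnit.of_mul_eq_one b hb
  exact MulEquiv.isField hF
    (IsLocalization.atUnits R (Submonoid.powers (D.sR i))
      (fun x hx => by obtain ⟨n, rfl⟩ := hx; exact hu.pow n) (S := A i)).symm.toMulEquiv

lemma isMaximal_of_prime [Nonempty ι] (P : Ideal R) [hP : P.IsPrime] (hP0 : P ≠ ⊥) :
    P.IsMaximal := by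
  obtain ⟨Q, hQ, hPQ⟩ := P.exists_le_maximal hP.ne_top
  obtain ⟨i, hi⟩ := D.exists_notMem ⟨Q, hQ.isPrime⟩
  have hrQ : (⟨Q, hQ.isPrime⟩ : PrimeSpectrum R) ∈
      Set.range (Spec.map (CommRingCat.ofHom (Subring.inclusion (D.le i)))).base := by
    rw [D.range_eq i]; exact hi
  have hrP : (⟨P, hP⟩ : PrimeSpectrum R) ∈
      Set.range (Spec.map (CommRingCat.ofHom (Subring.inclusion (D.le i)))).base := by
    rw [D.range_eq i]; exact fun h => hi (hPQ h)
  obtain ⟨p', hp'⟩ := hrP
  obtain ⟨q', hq'⟩ := hrQ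
  have hpe : P = p'.asIdeal.comap (Subring.inclusion (D.le i)) :=
    (congrArg PrimeSpectrum.asIdeal hp').symm
  have hqe : Q = q'.asIdeal.comap (Subring.inclusion (D.le i)) :=
    (congrArg PrimeSpectrum.asIdeal hq').symm
  letI := (Subring.inclusion (D.le i)).toAlgebra
  haveI := D.isLocalization i (h := D.le i)
  have hmem : p'.asIdeal ≤ q'.asIdeal := by
    rw [← IsLocalization.map_under (Submonoid.powers (D.sR i)) (A i) p'.asIdeal,
      ← IsLocalization.map_under (Submonoid.powers (D.sR i)) (A i) q'.asIdeal]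
    refine Ideal.map_mono ?_
    show p'.asIdeal.comap (Subring.inclusion (D.le i)) ≤
      q'.asIdeal.comap (Subring.inclusion (D.le i))
    rw [← hpe, ← hqe]; exact hPQ
  haveI := (D.hA i).krullDimLE
  have hne : p'.asIdeal ≠ ⊥ := fun e => hP0 <| by
    rw [hpe, e, ← RingHom.ker_eq_comap_bot]
    exact (RingHom.injective_iff_ker_eq_bot _).1 (Subring.inclusion_injective (D.le i))
  have hmax : p'.asIdeal.IsMaximal :=
    Ring.krullDimLE_one_iff_of_noZeroDivisors.1 ‹_› _ hne p'.2
  rw [hpe, hmax.eq_of_le q'.2.ne_top hmem, ← hqe]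
  exact hQ

lemma ringKrullDim_eq [Nonempty ι] : ringKrullDim R = 1 := by
  refine le_antisymm (Ring.krullDimLE_iff.1 (Ring.krullDimLE_one_iff_of_noZeroDivisors.2
    fun P hP0 hP => haveI := hP; D.isMaximal_of_prime P hP0)) ?_
  obtain ⟨m, hm, hm0⟩ : ∃ m : Ideal R, m.IsPrime ∧ m ≠ ⊥ := by
    obtain ⟨m, hm⟩ := Ideal.exists_maximal R
    exact ⟨m, hm.isPrime, Ring.ne_bot_of_isMaximal_of_not_isField hm D.not_isField⟩
  exact Order.one_le_krullDim_iff.2 ⟨(⟨⊥, Ideal.isPrime_bot⟩ : PrimeSpectrum R), ⟨m, hm⟩,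
    (PrimeSpectrum.asIdeal_lt_asIdeal _ _).1 (bot_lt_iff_ne_bot.2 hm0)⟩

lemma finite_maximalSpectrum [Nonempty ι] : Finite (MaximalSpectrum R) := by
  have hfin : {p : PrimeSpectrum R | p.asIdeal.IsMaximal}.Finite := by
    refine (Set.finite_iUnion (ι := ι) (f := fun i => (fun m : MaximalSpectrum (A i) =>
      PrimeSpectrum.comap (Subring.inclusion (D.le i)) ⟨m.asIdeal, m.isMaximal.isPrime⟩) ''
        Set.univ) fun i => ?_).subset fun p hp => ?_
    · haveI := (D.hA i).semilocal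
      exact Set.finite_univ.image _
    · have := Set.eq_univ_iff_forall.1 (D.iUnion_range (h := D.le)) p
      obtain ⟨i, q, hq⟩ := Set.mem_iUnion.1 this
      have hne : q.asIdeal ≠ ⊥ := fun e => by
        refine Ring.ne_bot_of_isMaximal_of_not_isField hp D.not_isField ?_
        rw [← hq]
        show q.asIdeal.comap (Subring.inclusion (D.le i)) = ⊥
        rw [e, ← RingHom.ker_eq_comap_bot]
        exact (RingHom.injective_iff_ker_eq_bot _).1 (Subring.inclusion_injective (D.le i))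
      haveI := (D.hA i).krullDimLE
      exact Set.mem_iUnion.2 ⟨i, ⟨q.asIdeal,
        Ring.krullDimLE_one_iff_of_noZeroDivisors.1 ‹_› _ hne q.2⟩, trivial, hq⟩
  haveI := hfin.to_subtype
  exact Finite.of_injective (fun m : MaximalSpectrum R =>
    (⟨⟨m.asIdeal, m.isMaximal.isPrime⟩, m.isMaximal⟩ : {p : PrimeSpectrum R | p.asIdeal.IsMaximal}))
    fun m m' h => MaximalSpectrum.ext (congrArg (fun t => t.1.asIdeal) h)

lemma existsUnique [Nonempty ι] {h : ∀ i, R ≤ A i} (m : PrimeSpectrum R)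
    (hm : m.asIdeal.IsMaximal) :
    ∃! i, m ∈ Set.range (Spec.map (CommRingCat.ofHom (Subring.inclusion (h i)))).base := by
  obtain ⟨i, hi⟩ := D.exists_notMem m
  refine ⟨i, by simp only [D.range_eq]; exact hi, fun j hj => ?_⟩
  by_contra hne
  have hj' := hj
  simp only [D.range_eq] at hj'
  obtain ⟨q, hq⟩ := hj
  have hq0 : q.asIdeal ≠ ⊥ := fun e => by
    refine Ring.ne_bot_of_isMaximal_of_not_isField hm D.not_isField ?_
    rw [← hq]
    show q.asIdeal.comap (Subring.inclusion (h j)) = ⊥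
    rw [e, ← RingHom.ker_eq_comap_bot]
    exact (RingHom.injective_iff_ker_eq_bot _).1 (Subring.inclusion_injective (h j))
  haveI := (D.hA j).krullDimLE
  obtain ⟨hsA, hjac⟩ := D.hsj i j (Ne.symm hne)
  refine hi ?_
  rw [← hq]
  show Subring.inclusion (h j) (D.sR i) ∈ q.asIdeal
  haveI := q.2
  exact mem_of_jacobson_of_prime hjac q.asIdeal hq0

lemma isPushout {i j : ι} (hij : i ≠ j) {hi : R ≤ A i} {hj : R ≤ A j} :
    IsPushout (CommRingCat.ofHom (Subring.inclusion hi)) (CommRingCat.ofHom (Subring.inclusion hj))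
      (CommRingCat.ofHom (A i).subtype) (CommRingCat.ofHom (A j).subtype) := by
  letI := (Subring.inclusion hj).toAlgebra
  haveI := D.isLocalization j (h := hj)
  letI : Algebra (A i) K := (A i).subtype.toAlgebra
  haveI : IsLocalization
      ((Submonoid.powers (D.sR j)).map (Subring.inclusion hi)) K := by
    rw [Submonoid.map_powers]
    refine IsLocalization.Away.mk (Subring.inclusion hi (D.sR j)) ?_ (fun a => ?_)
      fun a b h => ⟨0, ?_⟩
    · exact IsUnit.mk0 _ (D.hs0 j)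
    · obtain ⟨n, hn⟩ := (D.hA i).exists_pow_mul_mem (D.hsj j i hij.symm) a
      exact ⟨n, ⟨_, hn n le_rfl⟩, mul_comm a _⟩
    · rw [pow_zero, one_mul, one_mul]
      exact Subtype.ext h
  exact CommRingCat.isPushout_of_isLocalization (Rₘ := A j) (Sₘ := K) (Subring.inclusion hi)
    (A j).subtype (RingHom.ext fun _ => rfl) (Submonoid.powers (D.sR j))

end Data

end Groth.Agent.Lib.SemiLocalDimOne.GlueMain
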