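import Groth.Agent.Lib.SemiLocalDimOne.KrullAkizuki
import Mathlib.RingTheory.DedekindDomain.AdicValuation
import Mathlib.RingTheory.Ideal.GoingUp
import Mathlib.RingTheory.Localization.Finiteness
import Mathlib.Algebra.Order.GroupWithZero.Canonical
import Mathlib.RingTheory.Jacobson.Ideal
import Mathlib.RingTheory.KrullDimension.Field
import Mathlib.GroupTheory.ArchimedeanDensely
import Mathlib.AlgebraicGeometry.OpenImmersion
import Mathlib.Algebra.Category.Ring.Constructions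

/-!
# Glueing semilocal one-dimensional subrings of a field (Stacks, tag 0AB4 ff.)
-/

set_option linter.style.haveILetI false
set_option linter.unusedSectionVars false

universe u

namespace Groth.Agent.Lib.SemiLocalDimOne.Glue

open Groth.Agent.Lib.SemiLocalDimOne.KrullAkizuki

section Ring

variable {R K : Type*} [CommRing R] [Field K] [Algebra R K] [IsFractionRing R K] [IsDomain R]

lemma mem_of_jacobson_of_prime [Ring.KrullDimLE 1 R] {x : R} (hx : x ∈ (⊥ : Ideal R).jacobson)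
    (P : Ideal R) [P.IsPrime] (hP : P ≠ ⊥) : x ∈ P := by
  have hm : P.IsMaximal := Ring.krullDimLE_one_iff_of_noZeroDivisors.1 ‹_› P hP ‹_›
  exact Submodule.mem_sInf.1 hx P ⟨bot_le, hm⟩

/-- An element in all nonzero primes becomes, after a power, a denominator for anything. -/
lemma exists_pow_mul_eq {x : R} (hx : ∀ P : Ideal R, P.IsPrime → P ≠ ⊥ → x ∈ P) (a : K) :
    ∃ n : ℕ, ∀ m, n ≤ m → ∃ r : R, algebraMap R K x ^ m * a = algebraMap R K r := by
  obtain ⟨⟨p, q⟩, hpq⟩ := IsLocalization.surj (nonZeroDivisors R) a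
  have hq : (q : R) ≠ 0 := nonZeroDivisors.ne_zero q.2
  have : x ∈ (Ideal.span {(q : R)}).radical := by
    rw [Ideal.radical_eq_sInf]
    refine Submodule.mem_sInf.2 fun P hP => hx P hP.2 fun h => hq ?_
    simpa [h] using hP.1
  obtain ⟨n, hn⟩ := this
  obtain ⟨w, hw⟩ := Ideal.mem_span_singleton.1 hn
  refine ⟨n, fun m hm => ⟨x ^ (m - n) * w * p, ?_⟩⟩
  obtain ⟨j, rfl⟩ := Nat.exists_eq_add_of_le hm
  rw [Nat.add_sub_cancel_left, map_mul, map_mul, ← hpq, ← map_pow, pow_add, hw]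
  simp only [map_mul]
  ring

variable [IsNoetherianRing R] [Ring.KrullDimLE 1 R]

theorem exists_pow_mul_mem (z : integralClosure R K)
    (hz : ∀ Q : Ideal (integralClosure R K), Q.IsPrime → Q ≠ ⊥ → z ∈ Q) (y : integralClosure R K) :
    ∃ n : ℕ, ((z ^ n * y : integralClosure R K) : K) ∈ (algebraMap R K).range := by
  classical
  let C : Subalgebra R K := Algebra.adjoin R {(z : K), (y : K)}
  have hfg : (Subalgebra.toSubmodule C).FG := by
    refine fg_adjoin_of_finite (Set.toFinite _) fun w hw => ?_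
    rcases hw with rfl | rfl
    · exact z.2
    · exact y.2
  obtain ⟨S, hS⟩ := hfg
  obtain ⟨c, hc⟩ := IsLocalization.exist_integer_multiples_of_finset (nonZeroDivisors R) S
  have hcC : ∀ w ∈ C, (c : R) • w ∈ (algebraMap R K).range := by
    intro w hw
    replace hw : w ∈ Submodule.span R (S : Set K) := hS.symm ▸ hw
    induction hw using Submodule.span_induction with
    | mem w hw => exact hc w hw
    | zero => simp
    | add _ _ _ _ h1 h2 => rw [smul_add]; exact add_mem h1 h2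
    | smul r w _ h =>
      rw [smul_comm, Algebra.smul_def r]
      exact mul_mem ⟨r, rfl⟩ h
  have hzC : (z : K) ∈ C := Algebra.subset_adjoin (Set.mem_insert _ _)
  have hle : C ≤ integralClosure R K := Algebra.adjoin_le fun w hw => by
    rcases hw with rfl | rfl
    · exact z.2
    · exact y.2
  letI : Algebra C (integralClosure R K) := (Subalgebra.inclusion hle).toRingHom.toAlgebra
  haveI : IsScalarTower R C (integralClosure R K) := IsScalarTower.of_algebraMap_eq fun r => rfl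
  haveI : Algebra.IsIntegral C (integralClosure R K) :=
    ⟨fun w => (IsIntegralClosure.isIntegral R K w).tower_top⟩
  have hrad : (⟨z, hzC⟩ : C) ∈ (Ideal.span {algebraMap R C c}).radical := by
    rw [Ideal.radical_eq_sInf]
    refine Submodule.mem_sInf.2 fun P hP => ?_
    haveI := hP.2
    obtain ⟨Q, -, hQ, hQP⟩ := Ideal.exists_ideal_over_prime_of_isIntegral P
      (⊥ : Ideal (integralClosure R K)) (by
        rw [← RingHom.ker_eq_comap_bot,
          (RingHom.injective_iff_ker_eq_bot (algebraMap C (integralClosure R K))).1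
            (Subalgebra.inclusion_injective hle)]
        exact bot_le)
    rw [← hQP, Ideal.mem_comap]
    refine hz Q hQ fun h => ?_
    have h1 : algebraMap R C c ∈ P := hP.1 (Ideal.mem_span_singleton_self _)
    rw [← hQP, h, Ideal.mem_comap, Ideal.mem_bot] at h1
    exact nonZeroDivisors.ne_zero c.2 (IsFractionRing.injective R K
      ((congrArg Subtype.val h1).trans (map_zero _).symm))
  obtain ⟨n, hn⟩ := hrad
  obtain ⟨w, hw⟩ := Ideal.mem_span_singleton.1 hn
  refine ⟨n, ?_⟩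
  have h2 := hcC ((w : K) * y)
    (mul_mem w.2 (Algebra.subset_adjoin (Set.mem_insert_of_mem _ rfl)))
  have h3 : (z : K) ^ n = algebraMap R K c * w := congrArg Subtype.val hw
  rw [Algebra.smul_def] at h2
  simp only [MulMemClass.coe_mul, SubmonoidClass.coe_pow, h3]
  rwa [mul_assoc]

end Ring

variable {K : Type u} [Field K]

/-- `x` lies in `B` and in its Jacobson radical. -/
def InJac (B : Subring K) (x : K) : Prop := ∃ hx : x ∈ B, (⟨x, hx⟩ : B) ∈ (⊥ : Ideal B).jacobson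

lemma InJac.mul_mem {B : Subring K} {x b : K} (h : InJac B x) (hb : b ∈ B) : InJac B (b * x) := by
  obtain ⟨hx, h⟩ := h
  exact ⟨MulMemClass.mul_mem hb hx, Ideal.mul_mem_left _ (⟨b, hb⟩ : B) h⟩

/-- `1 + x b` is a unit. -/
lemma InJac.inv_mem {B : Subring K} {x b : K} (h : InJac B x) (hb : b ∈ B) :
    1 + x * b ≠ 0 ∧ (1 + x * b)⁻¹ ∈ B := by
  obtain ⟨hx, h⟩ := h
  obtain ⟨w, hw⟩ := Ideal.mem_jacobson_bot.1 h ⟨b, hb⟩
  have hw' : (w : B).1 = 1 + x * b := by rw [hw]; simp [add_comm]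
  have := congrArg Subtype.val w.mul_inv
  simp only [MulMemClass.coe_mul, OneMemClass.coe_one, hw'] at this
  refine ⟨left_ne_zero_of_mul_eq_one this, ?_⟩
  rw [inv_eq_of_mul_eq_one_right this]
  exact ((w⁻¹ : Bˣ) : B).2

/-- The hypotheses on our subrings. -/
structure Nice (B : Subring K) : Prop where
  noeth : IsNoetherianRing B
  frac : IsFractionRing B K
  dim : ringKrullDim B = 1
  semilocal : Finite (MaximalSpectrum B)

lemma Nice.krullDimLE {B : Subring K} (h : Nice B) : Ring.KrullDimLE 1 B :=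
  Ring.krullDimLE_iff.2 h.dim.le

lemma Nice.not_isField {B : Subring K} (h : Nice B) : ¬ IsField B := fun hF => by
  letI := hF.toField
  have := ringKrullDim_eq_zero_of_field B
  rw [h.dim] at this
  exact one_ne_zero this

lemma Nice.exists_jac {B : Subring K} (h : Nice B) : ∃ x : K, x ≠ 0 ∧ InJac B x := by
  haveI := h.semilocal
  haveI := h.krullDimLE
  obtain ⟨x, hx, hxP⟩ := exists_ne_zero_mem_prime B
  refine ⟨x, fun he => hx (Subtype.ext he), x.2, Submodule.mem_sInf.2 fun m hm => ?_⟩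
  exact hxP m hm.2.isPrime (Ring.ne_bot_of_isMaximal_of_not_isField hm.2 h.not_isField)

lemma Nice.exists_pow_mul_mem {B : Subring K} (h : Nice B) {x : K} (hx : InJac B x) (a : K) :
    ∃ n : ℕ, ∀ m, n ≤ m → x ^ m * a ∈ B := by
  obtain ⟨hxB, hx⟩ := hx
  haveI := h.frac
  haveI := h.krullDimLE
  obtain ⟨n, hn⟩ := exists_pow_mul_eq (R := B) (K := K) (x := ⟨x, hxB⟩)
    (fun P hP hP0 => @mem_of_jacobson_of_prime _ _ _ _ _ hx P hP hP0) a
  refine ⟨n, fun m hm => ?_⟩
  obtain ⟨r, hr⟩ := hn m hm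
  change x ^ m * a = r at hr
  exact hr ▸ r.2

lemma exists_one_lt_of_sup_eq_top (v : Valuation K (WithZero (Multiplicative ℤ))) (π : K)
    (hπ : 1 < v π) {A B : Subring K} (hB : ∀ b ∈ B, v b ≤ 1) (hAB : A ⊔ B = ⊤) :
    ∃ a ∈ A, 1 < v a := by
  by_contra! hA
  have : (⊤ : Subring K) ≤ v.integer := hAB ▸ sup_le (fun a ha => hA a ha) (fun b hb => hB b hb)
  exact not_lt.2 (this (Subring.mem_top π)) hπ

/-- The valuations belonging to a one-dimensional semilocal ring. -/
lemma Nice.exists_valuations {B : Subring K} (h : Nice B) :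
    ∃ (ι : Type u) (_ : Finite ι) (v : ι → Valuation K (WithZero (Multiplicative ℤ))),
      (∀ i, ∀ A : Subring K, A ⊔ B = ⊤ → ∃ a ∈ A, 1 < v i a) ∧
      ∀ x : K, (∀ i, 1 < v i x) → ∃ n : ℕ, 0 < n ∧ InJac B (x⁻¹ ^ n) := by
  haveI := h.noeth
  haveI := h.frac
  haveI := h.semilocal
  haveI := h.krullDimLE
  let D : Subalgebra B K := integralClosure B K
  haveI : IsDedekindDomain D := isDedekindDomain_integralClosure
  haveI : Finite (MaximalSpectrum D) := finite_maximalSpectrum_subalgebra D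
  haveI : IsFractionRing D K := IsFractionRing.of_field _ _ fun a => by
    obtain ⟨p, q, hq, e⟩ := IsFractionRing.div_surjective (A := B) a
    exact ⟨algebraMap B D p, algebraMap B D q, e.symm⟩
  haveI hfin : Finite (IsDedekindDomain.HeightOneSpectrum D) :=
    Finite.of_injective (fun P => (⟨P.asIdeal, P.isMaximal⟩ : MaximalSpectrum D))
      fun P P' e => IsDedekindDomain.HeightOneSpectrum.ext (congrArg MaximalSpectrum.asIdeal e)
  refine ⟨IsDedekindDomain.HeightOneSpectrum D, hfin, fun P => P.valuation K, ?_, ?_⟩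
  · intro P A hA
    obtain ⟨π, hπ⟩ := P.valuation_exists_uniformizer K
    refine exists_one_lt_of_sup_eq_top _ π⁻¹ ?_ (fun b hb => ?_) hA
    · rw [map_inv₀, hπ]; decide
    · exact P.valuation_le_one (algebraMap B D ⟨b, hb⟩)
  · intro x hx
    have hle : ∀ P : IsDedekindDomain.HeightOneSpectrum D, P.valuation K x⁻¹ < 1 := fun P => by
      rw [map_inv₀]; exact inv_lt_one_of_one_lt₀ (hx P)
    obtain ⟨z, hz⟩ := IsDedekindDomain.HeightOneSpectrum.mem_integers_of_valuation_le_one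
      (R := D) K x⁻¹ fun P => (hle P).le
    have hzQ : ∀ Q : Ideal D, Q.IsPrime → Q ≠ ⊥ → z ∈ Q := fun Q hQ hQ0 => by
      have := hle ⟨Q, hQ, hQ0⟩
      rwa [← hz, IsDedekindDomain.HeightOneSpectrum.valuation_lt_one_iff_mem] at this
    obtain ⟨n, b, hb⟩ := Glue.exists_pow_mul_mem (R := B) z hzQ z
    refine ⟨n + 1, n.succ_pos, ?_⟩
    have hb' : (b : K) = x⁻¹ ^ (n + 1) := by
      rw [← hz]; rw [pow_succ]; exact hb
    refine ⟨hb' ▸ b.2, Submodule.mem_sInf.2 fun m hm => ?_⟩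
    haveI := hm.2.isPrime
    obtain ⟨Q, -, hQ, hQm⟩ := Ideal.exists_ideal_over_prime_of_isIntegral m
      (⊥ : Ideal D) (by
        rw [← RingHom.ker_eq_comap_bot, (RingHom.injective_iff_ker_eq_bot _).1
          (FaithfulSMul.algebraMap_injective B D)]
        exact bot_le)
    rw [← hQm, Ideal.mem_comap]
    have : algebraMap B D ⟨x⁻¹ ^ (n + 1), hb' ▸ b.2⟩ = z ^ (n + 1) :=
      Subtype.ext (show x⁻¹ ^ (n + 1) = ((z ^ (n + 1) : D) : K) by
        rw [← hz, SubmonoidClass.coe_pow]; rfl)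
    rw [this]
    refine Ideal.pow_mem_of_mem _ (hzQ Q hQ fun e => ?_) _ n.succ_pos
    refine Ring.ne_bot_of_isMaximal_of_not_isField hm.2 h.not_isField ?_
    rw [← hQm, e, ← RingHom.ker_eq_comap_bot]
    exact (RingHom.injective_iff_ker_eq_bot _).1 (FaithfulSMul.algebraMap_injective B D)

lemma eventually_lt_pow {b : WithZero (Multiplicative ℤ)} (hb : 1 < b)
    (c : WithZero (Multiplicative ℤ)) : ∀ᶠ n : ℕ in Filter.atTop, c < b ^ n := by
  rcases eq_or_ne c 0 with rfl | hc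
  · exact Filter.Eventually.of_forall fun n => pow_pos (zero_lt_one.trans hb) n
  obtain ⟨n, hn⟩ := exists_pow_lt₀ (inv_lt_one_of_one_lt₀ hb) (Units.mk0 c⁻¹ (inv_ne_zero hc))
  replace hn : c < b ^ n := by
    rw [inv_pow, Units.val_mk0, inv_lt_inv₀ (pow_pos (zero_lt_one.trans hb) n)
      (zero_lt_iff.2 hc)] at hn
    exact hn
  exact Filter.eventually_atTop.2 ⟨n, fun m hm => hn.trans_le (pow_le_pow_right₀ hb.le hm)⟩

lemma exists_forall_one_lt {ι : Type*} [Finite ι] (A : Subring K)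
    (v : ι → Valuation K (WithZero (Multiplicative ℤ))) (h : ∀ i, ∃ a ∈ A, 1 < v i a) :
    ∃ x ∈ A, x ≠ 0 ∧ ∀ i, 1 < v i x := by
  classical
  cases nonempty_fintype ι
  suffices ∀ s : Finset ι, ∃ x ∈ A, x ≠ 0 ∧ ∀ i ∈ s, 1 < v i x by
    obtain ⟨x, hxA, hx0, hx⟩ := this Finset.univ
    exact ⟨x, hxA, hx0, fun i => hx i (Finset.mem_univ i)⟩
  intro s
  induction s using Finset.induction_on with
  | empty => exact ⟨1, one_mem A, one_ne_zero, by simp⟩
  | insert j s _ ih =>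
    obtain ⟨x, hxA, hx0, hx⟩ := ih
    by_cases hj : 1 < v j x
    · exact ⟨x, hxA, hx0, Finset.forall_mem_insert _ _ _ |>.2 ⟨hj, hx⟩⟩
    obtain ⟨a, haA, ha⟩ := h j
    obtain ⟨n, hn, hn0⟩ := (((Filter.eventually_all_finset s).2 fun i hi =>
      eventually_lt_pow (hx i hi) (v i a)).and (Filter.eventually_gt_atTop 0)).exists
    have hval : 1 < v j (x ^ n + a) := by
      rw [Valuation.map_add_eq_of_lt_right]
      · exact ha
      · rw [map_pow]
        exact (pow_le_one' (not_lt.1 hj) n).trans_lt ha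
    refine ⟨x ^ n + a, add_mem (pow_mem hxA n) haA, fun e => ?_,
      Finset.forall_mem_insert _ _ _ |>.2 ⟨hval, fun i hi => ?_⟩⟩
    · simp [e] at hval
    · rw [Valuation.map_add_eq_of_lt_left, map_pow]
      · exact one_lt_pow₀ (hx i hi) hn0.ne'
      · rw [map_pow]; exact hn i hi

lemma exists_inv_injac {r : ℕ} (A : Subring K) (B : Fin r → Subring K) (hB : ∀ i, Nice (B i))
    (hAB : ∀ i, A ⊔ B i = ⊤) : ∃ x ∈ A, x ≠ 0 ∧ ∀ i, InJac (B i) x⁻¹ := by
  classical
  choose ι hι v hv hjac using fun i => (hB i).exists_valuations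
  haveI := hι
  obtain ⟨x, hxA, hx0, hx⟩ := exists_forall_one_lt A (fun p : Σ i, ι i => v p.1 p.2)
    fun p => hv p.1 p.2 A (hAB p.1)
  choose n hn0 hn using fun i => hjac i x fun j => hx ⟨i, j⟩
  refine ⟨x ^ ∏ i, n i, pow_mem hxA _, pow_ne_zero _ hx0, fun i => ?_⟩
  obtain ⟨k, hk⟩ := Finset.dvd_prod_of_mem n (Finset.mem_univ i)
  have hk0 : k ≠ 0 := fun e => by
    simp [e, Finset.prod_eq_zero_iff] at hk
    obtain ⟨j, hj⟩ := hk
    exact (hn0 j).ne' hj
  obtain ⟨k', rfl⟩ := Nat.exists_eq_succ_of_ne_zero hk0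
  rw [hk, ← inv_pow, pow_mul, pow_succ]
  exact (hn i).mul_mem (pow_mem (hn i).1 _)

lemma exists_unit_injac {ι : Type*} [Finite ι] (A : Subring K) (hA : Nice A) (B : ι → Subring K)
    (hB : ∀ i, Nice (B i)) (hAB : ∀ i, A ⊔ B i = ⊤) :
    ∃ s : K, s ≠ 0 ∧ s ∈ A ∧ s⁻¹ ∈ A ∧ ∀ i, InJac (B i) s := by
  obtain ⟨r, ⟨e⟩⟩ := Finite.exists_equiv_fin ι
  choose κ hκ v hv hjac using fun i : Fin r => (hB (e.symm i)).exists_valuations
  haveI := hκ
  obtain ⟨x, hxA, hx0, hx⟩ := exists_forall_one_lt A (fun p : Σ i, κ i => v p.1 p.2)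
    fun p => hv p.1 p.2 A (hAB _)
  obtain ⟨y, hy0, hy⟩ := hA.exists_jac
  obtain ⟨n, hn⟩ := (Filter.eventually_all.2 fun p : Σ i, κ i =>
    eventually_lt_pow (hx p) (max 1 (v p.1 p.2 y)⁻¹ * 1)).exists
  have hbig : ∀ p : Σ i, κ i, 1 < v p.1 p.2 (1 + y * x ^ n) := fun p => by
    have hy' : 0 < v p.1 p.2 y := zero_lt_iff.2 ((Valuation.ne_zero_iff _).2 hy0)
    have h1 : 1 < v p.1 p.2 (y * x ^ n) := by
      rw [map_mul, map_pow, ← mul_inv_cancel₀ hy'.ne']
      exact mul_lt_mul_of_pos_left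
        ((le_max_right _ _).trans_lt (by simpa using hn p)) hy'
    rwa [Valuation.map_add_eq_of_lt_right]
    rwa [map_one]
  obtain ⟨hne, hinv⟩ := hy.inv_mem (pow_mem hxA n)
  have hw : 1 + y * x ^ n ∈ A := add_mem (one_mem A) (mul_mem hy.1 (pow_mem hxA n))
  choose m hm0 hm using fun i => hjac i _ fun j => hbig ⟨i, j⟩
  refine ⟨(1 + y * x ^ n)⁻¹ ^ ∏ i, m i, pow_ne_zero _ (inv_ne_zero hne), pow_mem hinv _, ?_, ?_⟩
  · rw [← inv_pow, inv_inv]; exact pow_mem hw _
  · intro i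
    have hi : ∀ i, InJac (B (e.symm i)) ((1 + y * x ^ n)⁻¹ ^ ∏ i, m i) := fun i => by
      obtain ⟨k, hk⟩ := Finset.dvd_prod_of_mem m (Finset.mem_univ i)
      have hk0 : k ≠ 0 := fun e => by
        simp [e, Finset.prod_eq_zero_iff] at hk
        obtain ⟨j, hj⟩ := hk
        exact (hm0 j).ne' hj
      obtain ⟨k', rfl⟩ := Nat.exists_eq_succ_of_ne_zero hk0
      rw [hk, pow_mul, pow_succ]
      exact (hm i).mul_mem (pow_mem (hm i).1 _)
    simpa using hi (e i)

/-- The data needed to glue a family of subrings with intersection `R`. -/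
theorem exists_glueData {ι : Type*} [Finite ι] (A : ι → Subring K) (hA : ∀ i, Nice (A i))
    (hgen : ∀ i j, i ≠ j → A i ⊔ A j = ⊤) :
    ∃ s : ι → K, (∀ i, s i ≠ 0) ∧ (∀ i, s i ∈ A i) ∧ (∀ i, (s i)⁻¹ ∈ A i) ∧
      (∀ i j, i ≠ j → InJac (A j) (s i)) := by
  choose s hs0 hs hs' hsj using fun i => exists_unit_injac (A i) (hA i)
    (fun j : {j // i ≠ j} => A j.1) (fun j => hA j.1) fun j => hgen i j.1 j.2
  exact ⟨s, hs0, hs, hs', fun i j hij => hsj i ⟨j, hij⟩⟩

section glue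

open CategoryTheory AlgebraicGeometry

variable {ι : Type*} [Finite ι] {A : ι → Subring K} (hA : ∀ i, Nice (A i))
  {R : Subring K} (hR : ∀ x, x ∈ R ↔ ∀ i, x ∈ A i) {s : ι → K} (hs0 : ∀ i, s i ≠ 0)
  (hs : ∀ i, s i ∈ A i) (hs' : ∀ i, (s i)⁻¹ ∈ A i) (hsj : ∀ i j, i ≠ j → InJac (A j) (s i))

include hR hs hsj in
lemma mem_R (i : ι) : s i ∈ R := (hR _).2 fun j => by
  by_cases h : i = j
  · exact h ▸ hs i
  · exact (hsj i j h).1

include hA hR hs' hsj in
lemma exists_pow_mem (i : ι) {a : K} (ha : a ∈ A i) (hs : ∀ i, s i ∈ A i) :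
    ∃ n : ℕ, s i ^ n * a ∈ R := by
  classical
  cases nonempty_fintype ι
  have : ∀ j, ∃ n : ℕ, ∀ m, n ≤ m → s i ^ m * a ∈ A j := fun j => by
    by_cases h : i = j
    · exact ⟨0, fun m _ => h ▸ mul_mem (pow_mem (hs i) m) ha⟩
    · exact (hA j).exists_pow_mul_mem (hsj i j h) a
  choose n hn using this
  exact ⟨∑ j, n j, (hR _).2 fun j => hn j _ (Finset.single_le_sum (fun _ _ => Nat.zero_le _)
    (Finset.mem_univ j))⟩

include hR in
lemma le_A (i : ι) : R ≤ A i := fun _ hx => (hR _).1 hx i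

include hA hR hs hs' hsj hs0 in
lemma isLocalization_away (i : ι) :
    letI := (Subring.inclusion (le_A hR i)).toAlgebra
    IsLocalization.Away (⟨s i, mem_R hR hs hsj i⟩ : R) (A i) := by
  letI := (Subring.inclusion (le_A hR i)).toAlgebra
  refine IsLocalization.Away.mk _ ?_ (fun a => ?_) fun a b h => ⟨0, ?_⟩
  · exact IsUnit.of_mul_eq_one ⟨(s i)⁻¹, hs' i⟩ (Subtype.ext (mul_inv_cancel₀ (hs0 i)))
  · obtain ⟨n, hn⟩ := exists_pow_mem hA hR hs' hsj i a.2 hs
    refine ⟨n, ⟨_, hn⟩, Subtype.ext ?_⟩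
    show (a : K) * ((algebraMap R (A i) ⟨s i, mem_R hR hs hsj i⟩ ^ n : A i) : K) = s i ^ n * a
    rw [SubmonoidClass.coe_pow, mul_comm]; rfl
  · rw [pow_zero, one_mul, one_mul]
    exact Subtype.ext (congrArg Subtype.val h :)

include hR hs0 hs hs' hsj in
lemma span_eq_top [Nonempty ι] : Ideal.span (Set.range fun i => (⟨s i, mem_R hR hs hsj i⟩ : R)) = ⊤ := by
  classical
  cases nonempty_fintype ι
  rw [Ideal.eq_top_iff_one]
  have key : ∀ i, (∑ j, s j) ≠ 0 ∧ (∑ j, s j)⁻¹ ∈ A i := fun i => by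
    have hrest : InJac (A i) (∑ j ∈ Finset.univ.erase i, s j) :=
      ⟨sum_mem fun j hj => (hsj j i (Finset.ne_of_mem_erase hj)).1, by
        have e : (⟨∑ j ∈ Finset.univ.erase i, s j, sum_mem fun j hj =>
            (hsj j i (Finset.ne_of_mem_erase hj)).1⟩ : A i) =
            ∑ j : {j // j ∈ Finset.univ.erase i},
              (⟨s j.1, (hsj j.1 i (Finset.ne_of_mem_erase j.2)).1⟩ : A i) := by
          apply Subtype.ext
          simp only [AddSubmonoidClass.coe_finsetSum]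
          exact (Finset.sum_coe_sort _ s).symm
        rw [e]
        exact sum_mem fun j _ => (hsj j.1 i (Finset.ne_of_mem_erase j.2)).2⟩
    obtain ⟨h1, h2⟩ := hrest.inv_mem (hs' i)
    have e : ∑ j, s j = s i * (1 + (∑ j ∈ Finset.univ.erase i, s j) * (s i)⁻¹) := by
      rw [← Finset.add_sum_erase _ _ (Finset.mem_univ i)]
      field_simp [hs0 i]
    rw [e, mul_inv]
    exact ⟨mul_ne_zero (hs0 i) h1, mul_mem (hs' i) h2⟩
  have hinv : (∑ j, s j)⁻¹ ∈ R := (hR _).2 fun i => (key i).2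
  have e : (1 : R) = ⟨_, hinv⟩ * ∑ j, (⟨s j, mem_R hR hs hsj j⟩ : R) := by
    apply Subtype.ext
    simp only [OneMemClass.coe_one, MulMemClass.coe_mul, AddSubmonoidClass.coe_finsetSum]
    exact (inv_mul_cancel₀ (key (Classical.arbitrary ι)).1).symm
  rw [e]
  exact Ideal.mul_mem_left _ _ (sum_mem fun j _ => Ideal.subset_span ⟨j, rfl⟩)

end glue

end Groth.Agent.Lib.SemiLocalDimOne.Glue
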